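import Mathlib

/-!
Ideals of `R[s]` and of a Laurent ring `L` avoiding the special fibre, `s = t⁻¹`.
-/

set_option autoImplicit false

universe u

namespace Groth.Agent.WeierHensLib

open Polynomial IsLocalRing

/-- Monic with non-leading coefficients in the maximal ideal. -/
def Dist {R : Type u} [CommRing R] [IsLocalRing R] (P : R[X]) : Prop :=
  P.Monic ∧ ∀ i, i < P.natDegree → P.coeff i ∈ maximalIdeal R

variable {R : Type u} [CommRing R]

theorem span_inj {S : Type u} [CommRing S] (φ : R →+* S) (I₀ I : Ideal R) (hI : I₀ ≤ I)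
    (hs : ∀ y, ∃ x, y - φ x ∈ I₀.map φ) (hi : ∀ x, φ x ∈ I₀.map φ → x ∈ I₀) :
    (I.map φ).comap φ = I ∧ Function.Bijective (Ideal.quotientMap (I.map φ) φ Ideal.le_comap_map) := by
  have hcm : (I.map φ).comap φ = I := by
    refine le_antisymm (fun x hx => ?_) Ideal.le_comap_map
    have key : ∀ y ∈ I.map φ, ∀ c, ∃ a ∈ I, c * y - φ a ∈ I₀.map φ := by
      intro y hy
      induction hy using Submodule.span_induction with
      | mem y hy =>
        intro c
        obtain ⟨a, ha, rfl⟩ := hy
        obtain ⟨x', hx'⟩ := hs c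
        exact ⟨x' * a, I.mul_mem_left _ ha, by rw [map_mul, ← sub_mul]; exact Ideal.mul_mem_right _ _ hx'⟩
      | zero => exact fun c => ⟨0, zero_mem _, by simp⟩
      | add y z _ _ h1 h2 =>
        intro c
        obtain ⟨a, ha, ha'⟩ := h1 c
        obtain ⟨b, hb, hb'⟩ := h2 c
        exact ⟨a + b, add_mem ha hb, by rw [map_add, mul_add, add_sub_add_comm]; exact add_mem ha' hb'⟩
      | smul d y _ h =>
        intro c
        obtain ⟨a, ha, ha'⟩ := h (c * d)
        exact ⟨a, ha, by rwa [smul_eq_mul, ← mul_assoc]⟩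
    obtain ⟨a, ha, ha'⟩ := key _ hx 1
    rw [one_mul, ← map_sub] at ha'
    have := add_mem (hI (hi _ ha')) ha
    rwa [sub_add_cancel] at this
  refine ⟨hcm, Ideal.quotientMap_injective' hcm.le, fun y => ?_⟩
  obtain ⟨y, rfl⟩ := Ideal.Quotient.mk_surjective y
  obtain ⟨x, hx⟩ := hs y
  exact ⟨Ideal.Quotient.mk _ x, (Ideal.Quotient.eq.2 (Ideal.map_mono hI hx)).symm⟩

theorem map_comap_eq_of_surj {S : Type u} [CommRing S] (φ : R →+* S) (I₀ : Ideal R) (J : Ideal S)
    (hJ : I₀ ≤ J.comap φ) (hs : ∀ y, ∃ x, y - φ x ∈ I₀.map φ) : (J.comap φ).map φ = J := by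
  refine le_antisymm Ideal.map_comap_le fun y hy => ?_
  obtain ⟨x, hx⟩ := hs y
  have hxJ : φ x ∈ J := by
    have := sub_mem hy (Ideal.map_le_iff_le_comap.2 hJ hx)
    rwa [sub_sub_cancel] at this
  have := add_mem (Ideal.map_mono hJ hx) (Ideal.mem_map_of_mem φ (show x ∈ J.comap φ from hxJ))
  rwa [sub_add_cancel] at this

variable [IsLocalRing R] {L : Type u} [CommRing L] [Algebra R[X] L] [Algebra R L] [IsScalarTower R R[X] L]

theorem correspond (ψ : R[X] →ₐ[R] L) (hψ : ψ X * algebraMap R[X] L X = 1)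
    (hgen : ∀ P : R[X], Dist P → ∀ l : L, ∃ (k : ℕ) (q : R[X]),
      l * algebraMap R[X] L X ^ k - algebraMap R[X] L q ∈ Ideal.span {algebraMap R[X] L P})
    (hinj : ∀ P : R[X], Dist P → ∀ q : R[X], algebraMap R[X] L q ∈ Ideal.span {algebraMap R[X] L P} →
      ∃ N : ℕ, P ∣ X ^ N * q)
    (hJ : ∀ J : Ideal L, J ⊔ (maximalIdeal R).map (algebraMap R L) = ⊤ → ∃ P : R[X], Dist P ∧ algebraMap R[X] L P ∈ J) :
    (∀ I : Ideal R[X], I ⊔ (maximalIdeal R).map (algebraMap R R[X]) = ⊤ →
        (I.map ψ.toRingHom).comap ψ.toRingHom = I ∧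
        I.map ψ.toRingHom ⊔ (maximalIdeal R).map (algebraMap R L) = ⊤ ∧
        Function.Bijective (Ideal.quotientMap (I.map ψ.toRingHom) ψ.toRingHom Ideal.le_comap_map)) ∧
    (∀ J : Ideal L, J ⊔ (maximalIdeal R).map (algebraMap R L) = ⊤ →
        (J.comap ψ.toRingHom).map ψ.toRingHom = J ∧
        J.comap ψ.toRingHom ⊔ (maximalIdeal R).map (algebraMap R R[X]) = ⊤) := by
  let T : L := algebraMap R[X] L X
  have hTu : IsUnit T := IsUnit.of_mul_eq_one_right _ hψ
  have hψs : ∀ i : ℕ, ψ X ^ i * T ^ i = 1 := fun i => by rw [← mul_pow, hψ, one_pow]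
  letI : Invertible T := ⟨ψ X, hψ, by rw [mul_comm]; exact hψ⟩
  have hψe : ∀ f : R[X], ψ f = eval₂ (algebraMap R L) (⅟T) f := fun f => by
    conv_lhs => rw [← aeval_X_left_apply f, ← aeval_algHom_apply, aeval_def]
    rfl
  have halg : ∀ f : R[X], algebraMap R[X] L f = eval₂ (algebraMap R L) T f := fun f => by
    have h1 := aeval_algebraMap_apply (A := R[X]) (B := L) (X : R[X]) f
    rw [aeval_X_left_apply] at h1
    rw [← h1, aeval_def]
  have hrefl : ∀ (f : R[X]) (N : ℕ), f.natDegree ≤ N → ψ (reflect N f) * T ^ N = algebraMap R[X] L f := fun f N hN => by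
    rw [hψe, halg]
    exact eval₂_reflect_mul_pow (algebraMap R L) T N f hN
  have mem_m : ∀ f : R[X], (∀ i, f.coeff i ∈ maximalIdeal R) → f ∈ (maximalIdeal R).map (algebraMap R R[X]) :=
    fun f hf => by rw [Polynomial.algebraMap_eq, Ideal.mem_map_C_iff]; exact hf
  have core : ∀ f : R[X], f - 1 ∈ (maximalIdeal R).map (algebraMap R R[X]) →
      (∀ y, ∃ x, y - ψ x ∈ (Ideal.span {f}).map ψ.toRingHom) ∧
      (∀ x, ψ x ∈ (Ideal.span {f}).map ψ.toRingHom → x ∈ Ideal.span {f}) := by
    intro f hf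
    rw [Polynomial.algebraMap_eq, Ideal.mem_map_C_iff] at hf
    have hf0 : IsUnit (f.coeff 0) := by
      have h0 := hf 0
      rw [coeff_sub, coeff_one_zero] at h0
      by_contra hu
      exact (maximalIdeal.isMaximal R).ne_top ((Ideal.eq_top_iff_one _).2 (by simpa using sub_mem hu h0))
    let d := f.natDegree
    let P : R[X] := C ((hf0.unit⁻¹ : Rˣ) : R) * reflect d f
    have hcoefP : ∀ i, P.coeff i = ((hf0.unit⁻¹ : Rˣ) : R) * f.coeff (revAt d i) := fun i => by
      rw [coeff_C_mul, coeff_reflect]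
    have hPd : P.coeff d = 1 := by
      rw [hcoefP, revAt_le le_rfl, Nat.sub_self]
      exact hf0.val_inv_mul
    have hPdeg : P.natDegree ≤ d := natDegree_le_iff_coeff_eq_zero.2 fun i hi => by
      rw [hcoefP, show revAt d i = i from revAt_eq_self_of_lt hi, coeff_eq_zero_of_natDegree_lt hi, mul_zero]
    have hPeq : P.natDegree = d := le_antisymm hPdeg (le_natDegree_of_ne_zero (by rw [hPd]; exact one_ne_zero))
    have hP : Dist P := by
      refine ⟨monic_of_natDegree_le_of_coeff_eq_one d hPdeg hPd, fun i hi => ?_⟩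
      rw [hPeq] at hi
      rw [hcoefP, revAt_le hi.le]
      refine Ideal.mul_mem_left _ _ ?_
      have := hf (d - i)
      rwa [coeff_sub, coeff_one, if_neg (by omega), sub_zero] at this
    have hPψ : algebraMap R[X] L P = algebraMap R L ((hf0.unit⁻¹ : Rˣ) : R) * (ψ f * T ^ d) := by
      rw [map_mul, ← Polynomial.algebraMap_eq, ← IsScalarTower.algebraMap_apply, ← hrefl (reflect d f) d
        (natDegree_le_iff_coeff_eq_zero.2 fun i hi => by
          rw [coeff_reflect, revAt_eq_self_of_lt hi, coeff_eq_zero_of_natDegree_lt hi])]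
      congr 2
      rw [show reflect d (reflect d f) = f by ext i; simp [coeff_reflect]]
    have hmapf : (Ideal.span {f}).map ψ.toRingHom = Ideal.span {algebraMap R[X] L P} := by
      rw [Ideal.map_span, Set.image_singleton]
      rw [hPψ, show algebraMap R L ((hf0.unit⁻¹ : Rˣ) : R) * (ψ f * T ^ d) =
        ψ f * (algebraMap R L ((hf0.unit⁻¹ : Rˣ) : R) * T ^ d) by ring,
        Ideal.span_singleton_mul_right_unit (((hf0.unit⁻¹).isUnit.map (algebraMap R L)).mul (hTu.pow d))]
      rfl
    obtain ⟨w, hw⟩ : ∃ w : R[X], X * w - 1 ∈ Ideal.span {f} := by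
      refine ⟨-(C ((hf0.unit⁻¹ : Rˣ) : R) * f.divX), ?_⟩
      rw [Ideal.mem_span_singleton']
      refine ⟨-C ((hf0.unit⁻¹ : Rˣ) : R), ?_⟩
      have h1 := f.X_mul_divX_add
      have h2 : C ((hf0.unit⁻¹ : Rˣ) : R) * C (f.coeff 0) = 1 := by
        rw [← C_mul, hf0.val_inv_mul, C_1]
      linear_combination (C ((hf0.unit⁻¹ : Rˣ) : R)) * h1 - h2
    refine ⟨fun y => ?_, fun x hx => ?_⟩
    · obtain ⟨k, q, hq⟩ := hgen P hP y
      refine ⟨X ^ k * X ^ 0 * (reflect q.natDegree q) * w ^ q.natDegree, ?_⟩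
      rw [hmapf]
      have h1 : T * ψ X = 1 := by rw [mul_comm]; exact hψ
      have hwT : ψ w - T ∈ Ideal.span {algebraMap R[X] L P} := by
        have h2 := Ideal.mem_map_of_mem ψ.toRingHom hw
        rw [hmapf] at h2
        have h3 := Ideal.mul_mem_left _ T h2
        convert h3 using 1
        simp only [AlgHom.toRingHom_eq_coe, RingHom.coe_coe, map_sub, map_mul, map_one]
        linear_combination (-(ψ w)) * h1
      have hwTn : ψ w ^ q.natDegree - T ^ q.natDegree ∈ Ideal.span {algebraMap R[X] L P} :=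
        Ideal.mem_of_dvd _ (sub_dvd_pow_sub_pow _ _ _) hwT
      have h4 : y - ψ X ^ k * ψ (reflect q.natDegree q) * T ^ q.natDegree ∈ Ideal.span {algebraMap R[X] L P} := by
        have := Ideal.mul_mem_left _ (ψ X ^ k) hq
        convert this using 1
        rw [← hrefl q q.natDegree le_rfl]
        linear_combination -(y * hψs k)
      have := sub_mem h4 (Ideal.mul_mem_left _ (ψ X ^ k * ψ (reflect q.natDegree q)) hwTn)
      convert this using 1
      simp only [map_mul, map_pow, pow_zero, mul_one]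
      ring
    · rw [hmapf] at hx
      let D := x.natDegree
      have h5 : algebraMap R[X] L (reflect D x) ∈ Ideal.span {algebraMap R[X] L P} := by
        rw [← hrefl (reflect D x) D (natDegree_le_iff_coeff_eq_zero.2 fun i hi => by
          rw [coeff_reflect, revAt_eq_self_of_lt hi, coeff_eq_zero_of_natDegree_lt hi]),
          show reflect D (reflect D x) = x by ext i; simp [coeff_reflect]]
        exact Ideal.mul_mem_right _ _ hx
      obtain ⟨N, hN⟩ := hinj P hP _ h5
      let π : R[X] →ₐ[R] R[X] ⧸ Ideal.span {f} := Ideal.Quotient.mkₐ R _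
      have hsw : π w * π X = 1 := by
        rw [← map_mul, ← map_one π, mul_comm w]
        exact Ideal.Quotient.eq.2 hw
      letI : Invertible (π w) := ⟨π X, by rw [mul_comm]; exact hsw, hsw⟩
      have hπe : ∀ g : R[X], π g = eval₂ (algebraMap R (R[X] ⧸ Ideal.span {f})) (⅟(π w)) g := fun g => by
        conv_lhs => rw [← aeval_X_left_apply g, ← aeval_algHom_apply, aeval_def]
        rfl
      have hθ : ∀ g : R[X], ∀ M, g.natDegree ≤ M → π (reflect M g) * π w ^ M = aeval (π w) g := fun g M hM => by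
        rw [hπe, aeval_def]
        exact eval₂_reflect_mul_pow _ (π w) M g hM
      have hθP : aeval (π w) P = 0 := by
        rw [map_mul, aeval_C, ← hθ (reflect d f) d (natDegree_le_iff_coeff_eq_zero.2 fun i hi => by
            rw [coeff_reflect, revAt_eq_self_of_lt hi, coeff_eq_zero_of_natDegree_lt hi]),
          show reflect d (reflect d f) = f by ext i; simp [coeff_reflect],
          show π f = 0 from Ideal.Quotient.eq_zero_iff_mem.2 (Ideal.mem_span_singleton_self f)]
        simp
      obtain ⟨c, hc⟩ := hN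
      have h6 := congrArg (aeval (π w)) hc
      rw [map_mul, map_mul, hθP, zero_mul, map_pow, aeval_X, ← hθ (reflect D x) D
          (natDegree_le_iff_coeff_eq_zero.2 fun i hi => by
            rw [coeff_reflect, revAt_eq_self_of_lt hi, coeff_eq_zero_of_natDegree_lt hi]),
        show reflect D (reflect D x) = x by ext i; simp [coeff_reflect]] at h6
      refine Ideal.Quotient.eq_zero_iff_mem.1 ?_
      have hu : IsUnit (π w) := IsUnit.of_mul_eq_one _ hsw
      exact ((hu.pow D).mul_left_eq_zero).1 (((hu.pow N).mul_right_eq_zero).1 h6)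
  refine ⟨fun I hI => ?_, fun J hJtop => ?_⟩
  · obtain ⟨f, hfI, m, hm, hfm⟩ := Submodule.mem_sup.1 ((Ideal.eq_top_iff_one _).1 hI)
    have hf : f - 1 ∈ (maximalIdeal R).map (algebraMap R R[X]) := by
      have : f - 1 = -m := by rw [← hfm]; ring
      rw [this]
      exact neg_mem hm
    obtain ⟨hs, hi⟩ := core f hf
    obtain ⟨h1, h2⟩ := span_inj ψ.toRingHom _ I ((Ideal.span_singleton_le_iff_mem _).2 hfI) hs hi
    refine ⟨h1, ?_, h2⟩
    rw [← show ((maximalIdeal R).map (algebraMap R R[X])).map ψ.toRingHom = (maximalIdeal R).map (algebraMap R L) by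
      rw [Ideal.map_map]; congr 1; exact RingHom.ext ψ.commutes, ← Ideal.map_sup, hI, Ideal.map_top]
  · obtain ⟨P, hP, hPJ⟩ := hJ J hJtop
    let f : R[X] := reflect P.natDegree P
    have hfJ : Ideal.span {f} ≤ J.comap ψ.toRingHom := by
      rw [Ideal.span_singleton_le_iff_mem, Ideal.mem_comap]
      show ψ f ∈ J
      rw [← hrefl P P.natDegree le_rfl] at hPJ
      exact (Ideal.mul_unit_mem_iff_mem J (hTu.pow _)).1 hPJ
    have hf : f - 1 ∈ (maximalIdeal R).map (algebraMap R R[X]) := by
      refine mem_m _ fun i => ?_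
      rw [coeff_sub, coeff_one, coeff_reflect]
      rcases eq_or_ne i 0 with rfl | hi
      · rw [if_pos rfl, revAt_le (Nat.zero_le _), Nat.sub_zero, hP.1.coeff_natDegree, sub_self]
        exact zero_mem _
      · rw [if_neg hi, sub_zero]
        rcases lt_or_ge P.natDegree i with hlt | hle
        · rw [revAt_eq_self_of_lt hlt, coeff_eq_zero_of_natDegree_lt hlt]
          exact zero_mem _
        · rw [revAt_le hle]
          exact hP.2 _ (by omega)
    refine ⟨map_comap_eq_of_surj ψ.toRingHom _ J hfJ (core f hf).1, ?_⟩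
    rw [Ideal.eq_top_iff_one]
    have := sub_mem (Ideal.mem_sup_left (T := (maximalIdeal R).map (algebraMap R R[X]))
      (hfJ (Ideal.mem_span_singleton_self f))) (Ideal.mem_sup_right (S := J.comap ψ.toRingHom) hf)
    rwa [sub_sub_cancel] at this

end Groth.Agent.WeierHensLib
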