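import Mathlib
import Groth.Agent.WeierHensLib.Corr
import Groth.Agent.Hensel.FactorNonMonic

/-!
Weierstrass facts in the Zariski Laurent ring.
-/

set_option autoImplicit false

universe u

namespace Groth.Agent.WeierHensLib

open Polynomial IsLocalRing

theorem X_pow_mul_inj {k : Type*} [Field k] (n : ℕ) {a b : k[X]} (h : X ^ n * a = X ^ n * b) : a = b :=
  mul_left_cancel₀ (pow_ne_zero n X_ne_zero) h

variable {R : Type u} [CommRing R] [IsLocalRing R]

theorem Dist.map_residue {P : R[X]} (hP : Dist P) : P.map (residue R) = X ^ P.natDegree := by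
  ext i
  rw [coeff_map, coeff_X_pow]
  rcases lt_trichotomy i P.natDegree with h | rfl | h
  · rw [if_neg h.ne, residue_eq_zero_iff]
    exact hP.2 i h
  · rw [if_pos rfl, hP.1.coeff_natDegree, map_one]
  · rw [if_neg h.ne', coeff_eq_zero_of_natDegree_lt h, map_zero]

theorem Dist.X_pow_mem {P : R[X]} (hP : Dist P) :
    X ^ P.natDegree ∈ Ideal.span {P} ⊔ (maximalIdeal R).map (C : R →+* R[X]) := by
  rw [show (X : R[X]) ^ P.natDegree = P + (X ^ P.natDegree - P) by ring]
  refine Ideal.add_mem _ (Ideal.mem_sup_left (Ideal.mem_span_singleton_self P))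
    (Ideal.mem_sup_right (Ideal.mem_map_C_iff.2 fun i => ?_))
  rw [coeff_sub, coeff_X_pow, ← residue_eq_zero_iff, map_sub]
  have := congrArg (fun q => q.coeff i) hP.map_residue
  simp only [coeff_map, coeff_X_pow] at this
  rw [this]
  split_ifs <;> simp

theorem Dist.quotient_isIntegral {P : R[X]} (hP : Dist P) : Algebra.IsIntegral R (R[X] ⧸ Ideal.span {P}) :=
  haveI := hP.1.finite_adjoinRoot
  Algebra.IsIntegral.of_finite R (AdjoinRoot P)

/-- `X` lies in the Jacobson radical of `R[X] ⧸ P`. -/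
theorem Dist.X_mem_jacobson {P : R[X]} (hP : Dist P) :
    Ideal.Quotient.mk (Ideal.span {P}) X ∈ Ideal.jacobson ⊥ := by
  haveI := hP.quotient_isIntegral
  rw [Ideal.jacobson, Ideal.mem_sInf]
  intro M hM
  haveI := hM.2
  have hm : (maximalIdeal R).map (algebraMap R (R[X] ⧸ Ideal.span {P})) ≤ M := by
    rw [Ideal.map_le_iff_le_comap, eq_maximalIdeal (Ideal.isMaximal_comap_of_isIntegral_of_isMaximal (R := R) M)]
  have h := Ideal.mem_map_of_mem (Ideal.Quotient.mk (Ideal.span {P})) hP.X_pow_mem
  rw [Ideal.map_sup, Ideal.map_quotient_self, bot_sup_eq, Ideal.map_map, map_pow] at h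
  exact hM.2.isPrime.mem_of_pow_mem _ (hm h)

variable [HenselianLocalRing R]

theorem exists_dist_factor (f : R[X]) (k : ℕ) (s : (ResidueField R)[X]) (hs : s.coeff 0 = 1)
    (hf : f.map (residue R) = X ^ k * s) :
    ∃ (P h : R[X]), f = P * h ∧ Dist P ∧ IsUnit (h.coeff 0) := by
  have hc : IsCoprime ((X : (ResidueField R)[X]) ^ k) s := by
    refine IsCoprime.pow_left ⟨-s.divX, 1, ?_⟩
    have := Polynomial.divX_mul_X_add s
    rw [hs, C_1] at this
    linear_combination (-1 : (ResidueField R)[X]) * this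
  obtain ⟨g, h, rfl, hg, hg0, hh⟩ := Groth.Agent.Hensel.exists_factor_monic f _ s (monic_X_pow k) hc hf
  refine ⟨g, h, rfl, ⟨hg, fun i hi => ?_⟩, ?_⟩
  · have hdeg : g.natDegree = k := by
      have := congrArg natDegree hg0
      rwa [hg.natDegree_map, natDegree_X_pow] at this
    rw [← residue_eq_zero_iff, ← coeff_map, hg0, coeff_X_pow, if_neg (by omega)]
  · have := congrArg (fun q => q.coeff 0) hh
    simp only [coeff_map, hs] at this
    by_contra hu
    rw [(residue_eq_zero_iff _).2 hu] at this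
    exact zero_ne_one this

end Groth.Agent.WeierHensLib
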