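import Groth.Agent.PairHens.Basic
import Groth.Agent.Hensel.QuasiFinite
import Groth.Agent.Hensel.Idempotent
import Groth.Agent.WeierHensLib.Zariski
import Mathlib.RingTheory.ZariskisMainTheorem

/-!
Weierstrass preparation in the henselization of `R[X]` along `(X)`.
-/

set_option autoImplicit false

universe u

namespace Groth.Agent.WeierHensLib

open Polynomial IsLocalRing

variable {R : Type u} [CommRing R] [HenselianLocalRing R]
  {B : Type u} [CommRing B] [Algebra R B] [Algebra R[X] B] [IsScalarTower R R[X] B]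

local notation "IX" => Ideal.span ({(X : R[X])} : Set R[X])

theorem mC_map (D : Type u) [CommRing D] [Algebra R D] [Algebra R[X] D] [IsScalarTower R R[X] D] :
    ((maximalIdeal R).map (C : R →+* R[X])).map (algebraMap R[X] D) =
      (maximalIdeal R).map (algebraMap R D) := by
  rw [Ideal.map_map, IsScalarTower.algebraMap_eq R R[X] D, Polynomial.algebraMap_eq]

/-- Integral over a henselian local ring with `X` radically in `m`: a henselian pair along `X`. -/
theorem henselian_of_integral (D : Type u) [CommRing D] [Algebra R D] [Algebra.IsIntegral R D]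
    (t : D) (n : ℕ) (ht : t ^ n ∈ (maximalIdeal R).map (algebraMap R D)) :
    HenselianRing D (Ideal.span {t}) := by
  haveI := Hensel.of_isIntegral (I := maximalIdeal R) D
  exact Hensel.of_le_radical (I := (maximalIdeal R).map (algebraMap R D))
    ((Ideal.span_singleton_le_iff_mem _).2 ⟨n, ht⟩)

theorem hom_ext_span (hB : Hens2.IsPairHenselization R[X] IX B) {D : Type u} [CommRing D]
    (φ : R[X] →+* D) (hD : HenselianRing D (Ideal.span {φ X})) :
    ∃! g : B →+* D, g.comp (algebraMap R[X] B) = φ :=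
  hB.2 D _ φ hD (by rw [Ideal.map_span, Set.image_singleton])

theorem dist_quotient (hB : Hens2.IsPairHenselization R[X] IX B) {P : R[X]} (hP : Dist P) :
    (∀ b : B, ∃ q : R[X], algebraMap R[X] B q - b ∈ Ideal.span {algebraMap R[X] B P}) ∧
      ∀ q : R[X], algebraMap R[X] B q ∈ Ideal.span {algebraMap R[X] B P} → P ∣ q := by
  let mk := Ideal.Quotient.mk (Ideal.span {P})
  haveI : Algebra.IsIntegral R (R[X] ⧸ Ideal.span {P}) := hP.quotient_isIntegral
  have hC : HenselianRing (R[X] ⧸ Ideal.span {P}) (Ideal.span {mk X}) := by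
    refine henselian_of_integral (R := R) (R[X] ⧸ Ideal.span {P}) (mk X) P.natDegree ?_
    have h := Ideal.mem_map_of_mem mk hP.X_pow_mem
    rw [Ideal.map_sup, Ideal.map_quotient_self, bot_sup_eq, Ideal.map_map, map_pow] at h
    exact h
  obtain ⟨g, hg, -⟩ := hom_ext_span hB mk hC
  have hgP : g (algebraMap R[X] B P) = 0 :=
    (RingHom.congr_fun hg P).trans (Ideal.Quotient.eq_zero_iff_mem.2 (Ideal.mem_span_singleton_self P))
  let K := Ideal.span {algebraMap R[X] B P}
  let φ' : R[X] →+* B ⧸ K := (Ideal.Quotient.mk K).comp (algebraMap R[X] B)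
  let h : R[X] ⧸ Ideal.span {P} →+* B ⧸ K := Ideal.Quotient.lift _ φ' fun a ha => by
    obtain ⟨c, rfl⟩ := Ideal.mem_span_singleton'.1 ha
    exact Ideal.Quotient.eq_zero_iff_mem.2 (by rw [map_mul]; exact Ideal.mul_mem_left _ _ (Ideal.mem_span_singleton_self _))
  have hK : HenselianRing (B ⧸ K) (Ideal.span {φ' X}) := by
    haveI := hB.1
    have := Hensel.quotient (J := Ideal.map (algebraMap R[X] B) IX) K
    rwa [Ideal.map_map, Ideal.map_span, Set.image_singleton] at this
  have huniq : h.comp g = Ideal.Quotient.mk K :=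
    (hom_ext_span hB φ' hK).unique (by rw [RingHom.comp_assoc, hg]; rfl) rfl
  refine ⟨fun b => ?_, fun q hq => ?_⟩
  · obtain ⟨q, hq⟩ := Ideal.Quotient.mk_surjective (g b)
    refine ⟨q, Ideal.Quotient.eq.1 ?_⟩
    rw [← RingHom.congr_fun huniq b, RingHom.comp_apply, ← hq]
    rfl
  · obtain ⟨c, hc⟩ := Ideal.mem_span_singleton'.1 hq
    have h1 : mk q = 0 := by
      rw [← hg, RingHom.comp_apply, ← hc, map_mul, hgP, mul_zero]
    rwa [Ideal.Quotient.eq_zero_iff_mem, Ideal.mem_span_singleton] at h1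

theorem isUnit_quotX (y : R[X] ⧸ IX) :
    IsUnit y ↔ Ideal.Quotient.lift IX ((residue R).comp constantCoeff)
      (fun a ha => by
        obtain ⟨c, rfl⟩ := Ideal.mem_span_singleton'.1 ha
        simp) y ≠ 0 := by
  refine ⟨fun h => (h.map _).ne_zero, fun h => ?_⟩
  obtain ⟨r, rfl⟩ := Ideal.Quotient.mk_surjective y
  rw [Ideal.Quotient.lift_mk, RingHom.comp_apply, residue_ne_zero_iff_isUnit] at h
  rw [show Ideal.Quotient.mk IX r = Ideal.Quotient.mk IX (C (r.coeff 0)) from
    Ideal.Quotient.eq.2 (Ideal.mem_span_singleton.2 (X_dvd_sub_C))]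
  exact ((h.map C).map (Ideal.Quotient.mk IX) :)

theorem sub_mem_X_pow {L : Type u} [CommRing L] [Algebra R[X] L] (ε : L →ₐ[R[X]] R[X] ⧸ IX)
    (hker : RingHom.ker ε.toRingHom = (IX).map (algebraMap R[X] L)) (n : ℕ) (y : L) :
    ∃ (r : R[X]) (z : L), y = algebraMap R[X] L r + algebraMap R[X] L X ^ n * z := by
  induction n with
  | zero => exact ⟨0, y, by simp⟩
  | succ n ih =>
    obtain ⟨r, z, rfl⟩ := ih
    obtain ⟨s, hs⟩ := Ideal.Quotient.mk_surjective (ε z)
    have : z - algebraMap R[X] L s ∈ RingHom.ker ε.toRingHom := by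
      show ε (z - algebraMap R[X] L s) = 0
      rw [map_sub, ε.commutes, Ideal.Quotient.algebraMap_eq, hs, sub_self]
    rw [hker, Ideal.map_span, Set.image_singleton, Ideal.mem_span_singleton'] at this
    obtain ⟨c, hc⟩ := this
    refine ⟨r + X ^ n * s, c, ?_⟩
    rw [map_add, map_mul, map_pow, pow_succ]
    linear_combination -(algebraMap R[X] L X ^ n) * hc

theorem stage_factor (i : PairHens.Idx R[X] IX) [Algebra R i.L] [IsScalarTower R R[X] i.L] {x : i.L}
    (hx : x ∉ (maximalIdeal R).map (algebraMap R i.L)) :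
    ∃ (e : ℕ) (v : i.L), IsUnit v ∧
      x - algebraMap R[X] i.L X ^ e * v ∈ (maximalIdeal R).map (algebraMap R i.L) := by
  classical
  let mI : Ideal R[X] := (maximalIdeal R).map (C : R →+* R[X])
  let J := mI.map (algebraMap R[X] i.L)
  have hJ : J = (maximalIdeal R).map (algebraMap R i.L) := mC_map i.L
  rw [← hJ] at hx ⊢
  let T := algebraMap R[X] i.L X
  have hT : Ideal.span {T} = RingHom.ker i.ε.toRingHom := by
    rw [i.ker_eq_map, Ideal.map_span, Set.image_singleton]
  haveI : IsNoetherianRing (R[X] ⧸ mI) := by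
    haveI : IsNoetherianRing ((R ⧸ maximalIdeal R)[X]) := by
      haveI : IsNoetherianRing (R ⧸ maximalIdeal R) := inferInstanceAs (IsNoetherianRing (ResidueField R))
      infer_instance
    exact isNoetherianRing_of_ringEquiv _ (Ideal.polynomialQuotientEquivQuotientPolynomial (maximalIdeal R))
  let Q := i.L ⧸ J
  haveI : Algebra.EssFiniteType R[X] Q := by
    haveI : Algebra.EssFiniteType i.L Q := inferInstance
    exact Algebra.EssFiniteType.comp R[X] i.L Q
  haveI : Algebra.EssFiniteType (R[X] ⧸ mI) Q := Algebra.EssFiniteType.of_comp R[X] (R[X] ⧸ mI) Q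
  haveI : IsNoetherianRing Q := Algebra.EssFiniteType.isNoetherianRing (R[X] ⧸ mI) Q
  let t : Q := Ideal.Quotient.mk J T
  have hjac : Ideal.span {t} ≤ Ideal.jacobson ⊥ := by
    have := Hensel.map_le_jacobson (I := RingHom.ker i.ε.toRingHom)
      (Ideal.Quotient.mk_surjective (I := J)) i.ker_le_jacobson
    rwa [← hT, Ideal.map_span, Set.image_singleton] at this
  have hex : ∃ n, Ideal.Quotient.mk J x ∉ Ideal.span {t ^ n} := by
    by_contra hcon
    push_neg at hcon
    apply hx
    rw [← Ideal.Quotient.eq_zero_iff_mem]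
    have h := Ideal.iInf_pow_smul_eq_bot_of_le_jacobson (M := Q) _ hjac
    rw [← Submodule.mem_bot Q, ← h, Submodule.mem_iInf]
    intro n
    rw [smul_eq_mul, Ideal.mul_top, Ideal.span_singleton_pow]
    exact hcon n
  obtain ⟨n, hn⟩ : ∃ n, Nat.find hex = n + 1 := by
    refine ⟨Nat.find hex - 1, (Nat.succ_pred_eq_of_pos ?_).symm⟩
    rw [Nat.find_pos]
    simp
  have hmax : Ideal.Quotient.mk J x ∉ Ideal.span {t ^ (n + 1)} := hn ▸ Nat.find_spec hex
  have hmem := not_not.1 (Nat.find_min hex (show n < Nat.find hex by omega))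
  obtain ⟨w, hw⟩ := Ideal.mem_span_singleton'.1 hmem
  obtain ⟨v, rfl⟩ := Ideal.Quotient.mk_surjective w
  refine ⟨n, v, ?_, ?_⟩
  · rw [i.isUnit_iff, isUnit_quotX]
    intro hv
    obtain ⟨r, hr⟩ := Ideal.Quotient.mk_surjective (i.ε v)
    rw [← hr, Ideal.Quotient.lift_mk, RingHom.comp_apply, residue_eq_zero_iff] at hv
    apply hmax
    have h1 : v - algebraMap R[X] i.L r ∈ RingHom.ker i.ε.toRingHom := by
      show i.ε _ = 0
      rw [map_sub, i.ε.commutes, Ideal.Quotient.algebraMap_eq, hr, sub_self]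
    rw [← hT, Ideal.mem_span_singleton'] at h1
    obtain ⟨c, hc⟩ := h1
    have h2 : algebraMap R[X] i.L r - algebraMap R[X] i.L r.divX * T ∈ J := by
      rw [← map_mul, ← map_sub]
      refine Ideal.mem_map_of_mem _ ?_
      rw [show r - r.divX * X = C (r.coeff 0) by linear_combination (Polynomial.divX_mul_X_add r).symm]
      exact Ideal.mem_map_of_mem _ hv
    rw [Ideal.mem_span_singleton']
    refine ⟨Ideal.Quotient.mk J (c + algebraMap R[X] i.L r.divX), ?_⟩
    rw [← hw, pow_succ', ← mul_assoc]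
    congr 1
    show Ideal.Quotient.mk J _ * Ideal.Quotient.mk J T = _
    rw [← map_mul, eq_comm, Ideal.Quotient.eq]
    convert h2 using 1
    linear_combination -hc
  · rw [← Ideal.Quotient.eq, mul_comm, map_mul, map_pow]
    exact hw.symm

theorem comap_mC_sup (hB : Hens2.IsPairHenselization R[X] IX B) (n : ℕ) :
    ((maximalIdeal R).map (algebraMap R B) ⊔ (IX ^ n).map (algebraMap R[X] B)).comap (algebraMap R[X] B) =
      (maximalIdeal R).map (C : R →+* R[X]) ⊔ IX ^ n := by
  rw [← mC_map B, ← Ideal.map_sup]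
  exact PairHens.comap_map_eq hB _ n le_sup_right

theorem coeff_mem_of_mem {q : R[X]} {n : ℕ}
    (hq : q ∈ (maximalIdeal R).map (C : R →+* R[X]) ⊔ IX ^ n) {j : ℕ} (hj : j < n) :
    q.coeff j ∈ maximalIdeal R := by
  obtain ⟨a, ha, b, hb, rfl⟩ := Submodule.mem_sup.1 hq
  rw [Ideal.span_singleton_pow, Ideal.mem_span_singleton, X_pow_dvd_iff] at hb
  rw [coeff_add, hb j hj, add_zero]
  exact Ideal.mem_map_C_iff.1 ha j

/-- The quotient by a nonunit off `mB` is finite over `R`. -/
theorem finite_quotient (hB : Hens2.IsPairHenselization R[X] IX B) {f : B}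
    (hf : f ∉ (maximalIdeal R).map (algebraMap R B)) (hfu : ¬ IsUnit f) :
    ∃ e : ℕ, Module.Finite R (B ⧸ Ideal.span {f}) ∧
      f ∈ (maximalIdeal R).map (algebraMap R B) ⊔ (IX ^ e).map (algebraMap R[X] B) ∧
      algebraMap R[X] B X ^ e ∈ Ideal.span {f} ⊔ (maximalIdeal R).map (algebraMap R B) := by
  obtain ⟨eqv⟩ := PairHens.exists_algEquiv hB
  obtain ⟨i, x, hix⟩ := PairHens.exists_ι (eqv.symm f)
  letI : Algebra R i.L := ((algebraMap R[X] i.L).comp C).toAlgebra
  haveI : IsScalarTower R R[X] i.L := .of_algebraMap_eq fun _ => rfl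
  letI : Algebra R i.S := ((algebraMap R[X] i.S).comp C).toAlgebra
  haveI : IsScalarTower R R[X] i.S := .of_algebraMap_eq fun _ => rfl
  haveI : IsScalarTower R i.S i.L := .of_algebraMap_eq fun r =>
    IsScalarTower.algebraMap_apply R[X] i.S i.L (C r)
  let γ : i.L →ₐ[R[X]] B := eqv.toAlgHom.comp (PairHens.ι i)
  have hγx : γ x = f := by simp [γ, hix]
  have hγm : ∀ y ∈ (maximalIdeal R).map (algebraMap R i.L), γ y ∈ (maximalIdeal R).map (algebraMap R B) := by
    intro y hy
    rw [← mC_map] at hy ⊢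
    have := Ideal.mem_map_of_mem γ.toRingHom hy
    rwa [Ideal.map_map, show γ.toRingHom.comp (algebraMap R[X] i.L) = algebraMap R[X] B from RingHom.ext γ.commutes] at this
  obtain ⟨e, v, hv, hxv⟩ := stage_factor i fun h => hf (hγx ▸ hγm x h)
  have hT : algebraMap R[X] i.L X ^ e ∈ Ideal.span {x} ⊔ (maximalIdeal R).map (algebraMap R i.L) := by
    rw [← Ideal.mul_unit_mem_iff_mem _ hv]
    have := sub_mem (Ideal.mem_sup_left (T := (maximalIdeal R).map (algebraMap R i.L)) (Ideal.mem_span_singleton_self x))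
      (Ideal.mem_sup_right (S := Ideal.span {x}) hxv)
    rwa [sub_sub_cancel] at this
  refine ⟨e, ?_, ?_, ?_⟩
  rotate_left
  · rw [← hγx, show x = (x - algebraMap R[X] i.L X ^ e * v) + algebraMap R[X] i.L X ^ e * v by ring, map_add]
    refine Ideal.add_mem _ (Ideal.mem_sup_left (hγm _ hxv)) (Ideal.mem_sup_right ?_)
    rw [map_mul, map_pow, γ.commutes, ← map_pow]
    exact Ideal.mul_mem_right _ _ (Ideal.mem_map_of_mem _ (Ideal.pow_mem_pow (Ideal.mem_span_singleton_self _) e))
  · have := Ideal.mem_map_of_mem γ.toRingHom hT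
    rw [Ideal.map_sup, Ideal.map_span, Set.image_singleton, AlgHom.toRingHom_eq_coe, RingHom.coe_coe, map_pow, γ.commutes, hγx] at this
    exact SetLike.le_def.1 (sup_le_sup_left (Ideal.map_le_iff_le_comap.2 (fun y hy => hγm y hy :
      (maximalIdeal R).map (algebraMap R i.L) ≤ ((maximalIdeal R).map (algebraMap R B)).comap γ.toRingHom)) _) this
  obtain ⟨⟨a, s⟩, has⟩ := IsLocalization.surj i.T x
  simp only at has
  let χ : R[X] ⧸ IX →+* ResidueField R := Ideal.Quotient.lift IX ((residue R).comp constantCoeff)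
    (fun a ha => by
      obtain ⟨c, rfl⟩ := Ideal.mem_span_singleton'.1 ha
      simp)
  have hunit : ∀ y, IsUnit y ↔ χ y ≠ 0 := isUnit_quotX
  have hxu : ¬ IsUnit x := fun h => hfu (hγx ▸ h.map γ)
  have hpa : χ (i.pt a) = 0 := by
    by_contra hne
    apply hxu
    refine isUnit_of_mul_isUnit_left (y := algebraMap i.S i.L s) ?_
    rw [has]
    exact IsLocalization.map_units i.L (⟨a, (hunit _).2 hne⟩ : i.T)
  let S' := i.S ⧸ Ideal.span {a}
  let π : S' →+* ResidueField R := Ideal.Quotient.lift _ (χ.comp i.pt.toRingHom) fun b hb => by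
    obtain ⟨c, rfl⟩ := Ideal.mem_span_singleton'.1 hb
    show χ (i.pt (c * a)) = 0
    rw [map_mul, map_mul, hpa, mul_zero]
  let q : Ideal S' := RingHom.ker π
  haveI hqp : q.IsPrime := RingHom.ker_isPrime π
  have hq : q.comap (algebraMap R S') = maximalIdeal R := by
    refine Eq.trans ?_ ker_residue
    rw [RingHom.comap_ker]
    congr 1
    ext r
    show χ (i.pt (algebraMap R[X] i.S (C r))) = _
    rw [AlgHom.commutes]
    show residue R (constantCoeff (C r)) = _
    simp
  let F := Localization.AtPrime q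
  let toF : i.S →+* F := (algebraMap S' F).comp (Ideal.Quotient.mk _)
  have htoFu : ∀ t : i.T, IsUnit (toF t) := fun t => IsLocalization.map_units F
    (⟨Ideal.Quotient.mk _ (t : i.S), fun h => (hunit _).1 t.2 h⟩ : q.primeCompl)
  let ψ : i.L →+* F := IsLocalization.lift htoFu
  have hψS : ∀ b, ψ (algebraMap i.S i.L b) = toF b := IsLocalization.lift_eq htoFu
  have hψx : ψ x = 0 := by
    have := congrArg ψ has
    rw [map_mul, hψS, hψS, show toF a = 0 by simp [toF, Ideal.Quotient.eq_zero_iff_mem.2 (Ideal.mem_span_singleton_self a)]] at this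
    exact (htoFu s).mul_left_eq_zero.1 this
  have hψP : ∀ r : R[X], ψ (algebraMap R[X] i.L r) = algebraMap R[X] F r := fun r => by
    rw [IsScalarTower.algebraMap_apply R[X] i.S i.L, hψS]
    show algebraMap S' F _ = _
    rw [IsScalarTower.algebraMap_apply R[X] S' F]
    rfl
  have hψR : ∀ r : R, ψ (algebraMap R i.L r) = algebraMap R F r := fun r => by
    show ψ (algebraMap R[X] i.L (C r)) = _
    rw [hψP, IsScalarTower.algebraMap_apply R[X] S' F, IsScalarTower.algebraMap_apply R S' F]
    rfl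
  have hψm : ∀ y ∈ (maximalIdeal R).map (algebraMap R i.L), ψ y ∈ (maximalIdeal R).map (algebraMap R F) := by
    intro y hy
    have := Ideal.mem_map_of_mem ψ hy
    rwa [Ideal.map_map, show ψ.comp (algebraMap R i.L) = algebraMap R F from RingHom.ext hψR] at this
  have hFe : algebraMap R[X] F X ^ e ∈ (maximalIdeal R).map (algebraMap R F) := by
    obtain ⟨y, hy, z, hz, hyz⟩ := Submodule.mem_sup.1 hT
    obtain ⟨c, rfl⟩ := Ideal.mem_span_singleton'.1 hy
    rw [← hψP, ← map_pow, ← hyz, map_add, map_mul, hψx, mul_zero, zero_add]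
    exact hψm z hz
  haveI : Algebra.FiniteType R i.S := Algebra.FiniteType.trans (S := R[X]) inferInstance inferInstance
  haveI : Algebra.FiniteType R S' := .of_surjective (Ideal.Quotient.mkₐ R _) Ideal.Quotient.mk_surjective
  haveI : Algebra.WeaklyQuasiFiniteAt R q := by
    rw [Algebra.weaklyQuasiFiniteAt_iff, show q.under R = maximalIdeal R from hq]
    let mF := Ideal.Quotient.mkₐ R ((maximalIdeal R).map (algebraMap R F))
    let π₀ : R[X] →ₐ[R] (F ⧸ (maximalIdeal R).map (algebraMap R F)) :=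
      ⟨(mF.toRingHom.comp ψ).comp (algebraMap R[X] i.L), fun r => by
        show mF (ψ (algebraMap R i.L r)) = _
        rw [hψR, mF.commutes]⟩
    have hπ₀X : π₀ (X ^ e) = 0 := by
      show mF (ψ (algebraMap R[X] i.L (X ^ e))) = 0
      rw [map_pow, map_pow, hψP]
      exact Ideal.Quotient.eq_zero_iff_mem.2 hFe
    have hsurj : Function.Surjective π₀ := fun w => by
      obtain ⟨w, rfl⟩ := Ideal.Quotient.mk_surjective w
      obtain ⟨b, t, rfl⟩ := IsLocalization.exists_mk'_eq q.primeCompl w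
      obtain ⟨b, rfl⟩ := Ideal.Quotient.mk_surjective b
      obtain ⟨t₀, ht₀⟩ := Ideal.Quotient.mk_surjective (t : S')
      have ht₀T : t₀ ∈ i.T := (hunit _).2 fun h => t.2 (show π t = 0 by rw [← ht₀]; exact h)
      obtain ⟨r, z, hrz⟩ := sub_mem_X_pow i.ε i.ker_eq_map e (IsLocalization.mk' i.L b (⟨t₀, ht₀T⟩ : i.T))
      refine ⟨r, ?_⟩
      have hval : ψ (IsLocalization.mk' i.L b (⟨t₀, ht₀T⟩ : i.T)) = IsLocalization.mk' F (Ideal.Quotient.mk _ b) t := by
        rw [IsLocalization.lift_mk'_spec]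
        show algebraMap S' F _ = algebraMap S' F (Ideal.Quotient.mk _ t₀) * _
        rw [ht₀, IsLocalization.mk'_spec']
        rfl
      rw [← hval, hrz, map_add, map_mul, map_pow, map_add, map_mul, map_pow]
      show _ = π₀ r + π₀ X ^ e * _
      rw [← map_pow, hπ₀X, zero_mul, add_zero]
    let π₁ : (R[X] ⧸ Ideal.span {(X : R[X]) ^ e}) →ₐ[R] (F ⧸ (maximalIdeal R).map (algebraMap R F)) :=
      Ideal.Quotient.liftₐ _ π₀ fun b hb => by
        obtain ⟨c, rfl⟩ := Ideal.mem_span_singleton'.1 hb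
        rw [map_mul, hπ₀X, mul_zero]
    haveI : Module.Finite R (R[X] ⧸ Ideal.span {(X : R[X]) ^ e}) := (monic_X_pow e).finite_adjoinRoot
    haveI : Module.Finite R (F ⧸ (maximalIdeal R).map (algebraMap R F)) :=
      Module.Finite.of_surjective π₁.toLinearMap fun w => by
        obtain ⟨r, rfl⟩ := hsurj w
        exact ⟨Ideal.Quotient.mk _ r, rfl⟩
    infer_instance
  haveI := Algebra.QuasiFiniteAt.of_weaklyQuasiFiniteAt (R := R) q
  haveI : Module.Finite R F := Hensel.finite_localization q hq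
  haveI : Algebra.IsIntegral R F := Algebra.IsIntegral.of_finite R F
  obtain ⟨g, hg, -⟩ := hom_ext_span hB (algebraMap R[X] F) (henselian_of_integral F _ e hFe)
  let K := Ideal.span {f}
  let toB : i.S →+* B ⧸ K := ((Ideal.Quotient.mk K).comp γ.toRingHom).comp (algebraMap i.S i.L)
  have htoBa : toB a = 0 := by
    show Ideal.Quotient.mk K (γ (algebraMap i.S i.L a)) = 0
    rw [← has, map_mul, hγx, Ideal.Quotient.eq_zero_iff_mem]
    exact Ideal.mul_mem_right _ _ (Ideal.mem_span_singleton_self f)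
  let toB' : S' →+* B ⧸ K := Ideal.Quotient.lift _ toB fun b hb => by
    obtain ⟨c, rfl⟩ := Ideal.mem_span_singleton'.1 hb
    rw [map_mul, htoBa, mul_zero]
  have htoBu : ∀ t : q.primeCompl, IsUnit (toB' t) := fun t => by
    obtain ⟨t₀, ht₀⟩ := Ideal.Quotient.mk_surjective (t : S')
    rw [← ht₀]
    exact (((IsLocalization.map_units i.L (⟨t₀, (hunit _).2 fun h => t.2 (show π t = 0 by rw [← ht₀]; exact h)⟩ : i.T)).map γ).map
      (Ideal.Quotient.mk K) :)
  let h : F →+* B ⧸ K := IsLocalization.lift htoBu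
  have hh : ∀ r : R[X], h (algebraMap R[X] F r) = Ideal.Quotient.mk K (algebraMap R[X] B r) := fun r => by
    rw [IsScalarTower.algebraMap_apply R[X] S' F]
    show IsLocalization.lift htoBu _ = _
    rw [IsLocalization.lift_eq]
    show Ideal.Quotient.mk K (γ (algebraMap i.S i.L (algebraMap R[X] i.S r))) = _
    rw [← IsScalarTower.algebraMap_apply, γ.commutes]
  have hK : HenselianRing (B ⧸ K) (Ideal.span {((Ideal.Quotient.mk K).comp (algebraMap R[X] B)) X}) := by
    haveI := hB.1
    have := Hensel.quotient (J := Ideal.map (algebraMap R[X] B) IX) K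
    rwa [Ideal.map_map, Ideal.map_span, Set.image_singleton] at this
  have huniq : h.comp g = Ideal.Quotient.mk K :=
    (hom_ext_span hB _ hK).unique (by rw [RingHom.comp_assoc, hg]; exact RingHom.ext hh) rfl
  let h' : F →ₐ[R] B ⧸ K := ⟨h, fun r => by
    show h (algebraMap R F r) = Ideal.Quotient.mk K (algebraMap R B r)
    rw [IsScalarTower.algebraMap_apply R R[X] B, ← hh]
    congr 1⟩
  exact Module.Finite.of_surjective h'.toLinearMap fun w => by
    obtain ⟨b, rfl⟩ := Ideal.Quotient.mk_surjective w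
    exact ⟨g b, RingHom.congr_fun huniq b⟩

theorem isSMulRegular_dist (hB : Hens2.IsPairHenselization R[X] IX B) {P : R[X]} (hP : P.Monic)
    {b : B} (hb : algebraMap R[X] B P * b = 0) : b = 0 := by
  haveI := PairHens.flat_of_isPairHenselization hB
  have h : IsSMulRegular R[X] P := fun a c hac => hP.isRegular.left hac
  apply (TensorProduct.rid R[X] B).symm.injective
  apply IsSMulRegular.lTensor B h
  show P • (TensorProduct.rid R[X] B).symm b = P • (TensorProduct.rid R[X] B).symm 0
  rw [← map_smul, Algebra.smul_def, hb, map_zero, smul_zero]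

theorem exists_dist (hB : Hens2.IsPairHenselization R[X] IX B) {f : B}
    (hf : f ∉ (maximalIdeal R).map (algebraMap R B)) :
    ∃ (P : R[X]) (u : Bˣ), Dist P ∧ f = algebraMap R[X] B P * (u : B) := by
  by_cases hfu : IsUnit f
  · exact ⟨1, hfu.unit, ⟨monic_one, fun i hi => absurd hi (by simp)⟩, by simp⟩
  obtain ⟨e, hfin, hfe, hXe⟩ := finite_quotient hB hf hfu
  let K := Ideal.span {f}
  let ρ : R[X] →ₐ[R] B ⧸ K := (Ideal.Quotient.mkₐ R K).comp (IsScalarTower.toAlgHom R R[X] B)
  let N : Submodule R (B ⧸ K) := (degreeLT R e).map ρ.toLinearMap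
  have hN : (⊤ : Submodule R (B ⧸ K)) ≤ N := by
    refine Submodule.le_of_le_smul_of_le_jacobson_bot hfin.1 (maximalIdeal_le_jacobson ⊥) ?_
    intro w _
    obtain ⟨b, rfl⟩ := Ideal.Quotient.mk_surjective w
    obtain ⟨r, hr⟩ := PairHens.exists_sub_mem_map_pow hB e b
    rw [Ideal.span_singleton_pow, Ideal.map_span, Set.image_singleton, Ideal.mem_span_singleton', map_pow] at hr
    obtain ⟨c, hc⟩ := hr
    rw [show b = algebraMap R[X] B (r %ₘ X ^ e) + (algebraMap R[X] B (r - r %ₘ X ^ e) + c * algebraMap R[X] B X ^ e) by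
      rw [hc, map_sub]; ring, map_add]
    refine Submodule.add_mem_sup ⟨_, mem_degreeLT.2 ((degree_modByMonic_lt _ (monic_X_pow e)).trans_le (by simp)), rfl⟩ ?_
    rw [show r - r %ₘ X ^ e = X ^ e * (r /ₘ X ^ e) by linear_combination -(modByMonic_add_div r (X ^ e)), map_mul, map_pow,
      show algebraMap R[X] B X ^ e * algebraMap R[X] B (r /ₘ X ^ e) + c * algebraMap R[X] B X ^ e =
        algebraMap R[X] B X ^ e * (algebraMap R[X] B (r /ₘ X ^ e) + c) by ring]
    obtain ⟨y, hy, z, hz, hyz⟩ := Submodule.mem_sup.1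
      (Ideal.mul_mem_right (algebraMap R[X] B (r /ₘ X ^ e) + c) _ hXe)
    rw [← hyz, map_add, Ideal.Quotient.eq_zero_iff_mem.2 hy, zero_add, Ideal.smul_top_eq_map,
      Submodule.restrictScalars_mem]
    have := Ideal.mem_map_of_mem (Ideal.Quotient.mk K) hz
    rwa [Ideal.map_map] at this
  obtain ⟨ρ', hρ', hρ'e⟩ := hN (Submodule.mem_top (x := Ideal.Quotient.mk K (algebraMap R[X] B X ^ e)))
  have hdeg := mem_degreeLT.1 hρ'
  let P := X ^ e - ρ'
  have hPm : P.Monic := monic_X_pow_sub hdeg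
  have hPd : P.natDegree = e := by
    have h1 : P.degree = e := by
      rw [degree_sub_eq_left_of_degree_lt (by rwa [degree_X_pow]), degree_X_pow]
    exact natDegree_eq_of_degree_eq_some h1
  have hPK : algebraMap R[X] B P ∈ K := by
    rw [map_sub, map_pow]
    exact Ideal.Quotient.eq.1 hρ'e.symm
  let J : ℕ → Ideal B := fun n => (maximalIdeal R).map (algebraMap R B) ⊔ (IX ^ n).map (algebraMap R[X] B)
  have hJ : ∀ n q, algebraMap R[X] B q ∈ J n → q ∈ (maximalIdeal R).map (C : R →+* R[X]) ⊔ IX ^ n :=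
    fun n q h => (comap_mC_sup hB n).le h
  have hP : Dist P := by
    refine ⟨hPm, fun j hj => ?_⟩
    rw [hPd] at hj
    refine coeff_mem_of_mem (hJ e P ?_) hj
    exact (Ideal.span_singleton_le_iff_mem _).2 hfe hPK
  obtain ⟨c, hc⟩ := Ideal.mem_span_singleton'.1 hPK
  have hcu : IsUnit c := by
    by_contra hcu
    have hc1 : c ∈ J 1 := by
      obtain ⟨ε, hεk, hεu⟩ := PairHens.exists_point hB
      rw [hεu] at hcu
      obtain ⟨r, hr⟩ := Ideal.Quotient.mk_surjective (ε c)
      rw [← hr, isUnit_quotX, not_not, Ideal.Quotient.lift_mk, RingHom.comp_apply, residue_eq_zero_iff] at hcu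
      have hm : c - algebraMap R[X] B r ∈ RingHom.ker ε.toRingHom := by
        show ε _ = 0
        rw [map_sub, ε.commutes, Ideal.Quotient.algebraMap_eq, hr, sub_self]
      rw [hεk, ← pow_one IX] at hm
      rw [show c = (c - algebraMap R[X] B r) + algebraMap R[X] B r by ring]
      refine Ideal.add_mem _ (Ideal.mem_sup_right hm) ?_
      rw [← Polynomial.divX_mul_X_add r, map_add, map_mul]
      refine Ideal.add_mem _ (Ideal.mem_sup_right ?_) (Ideal.mem_sup_left ?_)
      · rw [pow_one]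
        exact Ideal.mul_mem_left _ _ (Ideal.mem_map_of_mem _ (Ideal.mem_span_singleton_self _))
      · rw [← mC_map]
        exact Ideal.mem_map_of_mem _ (Ideal.mem_map_of_mem _ hcu)
    have hmul : c * f ∈ J (e + 1) := by
      obtain ⟨c1, hc1', c2, hc2, hcs⟩ := Submodule.mem_sup.1 hc1
      obtain ⟨f1, hf1, f2, hf2, hfs⟩ := Submodule.mem_sup.1 hfe
      rw [← hcs, ← hfs, add_mul, mul_add c2]
      refine Ideal.add_mem _ (Ideal.mem_sup_left (Ideal.mul_mem_right _ _ hc1'))
        (Ideal.add_mem _ (Ideal.mem_sup_left (Ideal.mul_mem_left _ _ hf1)) (Ideal.mem_sup_right ?_))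
      rw [add_comm e 1, pow_add, Ideal.map_mul]
      exact Ideal.mul_mem_mul hc2 hf2
    rw [hc] at hmul
    have := coeff_mem_of_mem (hJ _ P hmul) (j := e) (Nat.lt_succ_self e)
    rw [← hPd, hPm.coeff_natDegree] at this
    exact (maximalIdeal.isMaximal R).ne_top ((Ideal.eq_top_iff_one _).2 this)
  refine ⟨P, hcu.unit⁻¹, hP, ?_⟩
  rw [Units.eq_mul_inv_iff_mul_eq, IsUnit.unit_spec, mul_comm]
  exact hc

end Groth.Agent.WeierHensLib
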